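import Groth.Agent.Purity.DepthRestrict
import Groth.Agent.Purity.Main
import Groth.Agent.VdimThree.Sch

/-!
# Extending finite algebras which are étale over the punctured spectrum
-/

set_option autoImplicit false
set_option linter.style.haveILetI false

universe u

open AlgebraicGeometry CategoryTheory CategoryTheory.Limits TopologicalSpace IsLocalRing
open Groth.Agent.Purity

namespace Groth.Agent.PureBranch

theorem isoSpec_hom_SpecMap {X : Scheme.{u}} [IsAffine X] {R : CommRingCat.{u}} (f : X ⟶ Spec R) :
    X.isoSpec.hom ≫ Spec.map ((Scheme.ΓSpecIso R).inv ≫ f.appTop) = f := by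
  rw [Spec.map_comp, Scheme.isoSpec_hom_naturality_assoc, Scheme.isoSpec_Spec_hom, ← Spec.map_comp,
    Iso.inv_hom_id, Spec.map_id, Category.comp_id]

theorem SpecMap_awayMap_comp {B C : Type u} [CommRing B] [CommRing C] (h : B →+* C) (r : B) :
    Spec.map (CommRingCat.ofHom (Localization.awayMap h r)) ≫
        Spec.map (CommRingCat.ofHom (algebraMap B (Localization.Away r))) =
      Spec.map (CommRingCat.ofHom (algebraMap C (Localization.Away (h r)))) ≫ Spec.map (CommRingCat.ofHom h) := by
  rw [← Spec.map_comp, ← Spec.map_comp]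
  congr 1
  ext x
  simp [Localization.awayMap, IsLocalization.Away.map]

theorem morphismRestrict_basicOpen_eq {B C : Type u} [CommRing B] [CommRing C] (h : B →+* C) (r : B) :
    (Spec.map (CommRingCat.ofHom h) ∣_ PrimeSpectrum.basicOpen r) ≫
        (basicOpenIsoSpecAway (R := CommRingCat.of B) r).hom =
      (basicOpenIsoSpecAway (R := CommRingCat.of C) (h r)).hom ≫
        Spec.map (CommRingCat.ofHom (Localization.awayMap h r)) := by
  let O : (Spec (CommRingCat.of B)).Opens := PrimeSpectrum.basicOpen r
  let g := Spec.map (CommRingCat.ofHom h)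
  let P : (Spec (CommRingCat.of C)).Opens := PrimeSpectrum.basicOpen (h r)
  have hB : (basicOpenIsoSpecAway (R := CommRingCat.of B) r).hom ≫
      Spec.map (CommRingCat.ofHom (algebraMap B (Localization.Away r))) = O.ι :=
    basicOpenIsoSpecAway_hom_SpecMap (R := CommRingCat.of B) r
  have hC : (basicOpenIsoSpecAway (R := CommRingCat.of C) (h r)).hom ≫
      Spec.map (CommRingCat.ofHom (algebraMap C (Localization.Away (h r)))) = P.ι :=
    basicOpenIsoSpecAway_hom_SpecMap (R := CommRingCat.of C) (h r)
  refine (cancel_mono (Spec.map (CommRingCat.ofHom (algebraMap B (Localization.Away r))))).1 ?_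
  refine (Category.assoc _ _ _).trans ?_
  refine Eq.trans (congrArg ((g ∣_ O) ≫ ·) hB) ?_
  refine Eq.trans (morphismRestrict_ι g O) ?_
  refine Eq.trans ?_ (Category.assoc _ _ _).symm
  refine Eq.trans ?_ (congrArg ((basicOpenIsoSpecAway (R := CommRingCat.of C) (h r)).hom ≫ ·)
    (SpecMap_awayMap_comp h r).symm)
  refine Eq.trans ?_ (Category.assoc _ _ _)
  refine Eq.trans ?_ (congrArg (· ≫ g) hC.symm)
  rfl

/-- An isomorphism above a basic open is an isomorphism of localisations. -/
theorem bijective_awayMap_of_isIso {B C : Type u} [CommRing B] [CommRing C] (h : B →+* C) (r : B)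
    (hiso : IsIso (Spec.map (CommRingCat.ofHom h) ∣_ PrimeSpectrum.basicOpen r)) :
    Function.Bijective (Localization.awayMap h r) := by
  have : IsIso (Spec.map (CommRingCat.ofHom (Localization.awayMap h r))) := by
    have h1 : IsIso ((Spec.map (CommRingCat.ofHom h) ∣_ PrimeSpectrum.basicOpen r) ≫
        (basicOpenIsoSpecAway (R := CommRingCat.of B) r).hom) := IsIso.comp_isIso' hiso inferInstance
    rw [morphismRestrict_basicOpen_eq h r] at h1
    exact (isIso_comp_left_iff _ _).1 h1
  exact isIso_SpecMap_iff.1 this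

section

variable {T : Type u} [CommRing T] [IsLocalRing T]

theorem mem_punctured_of_notMem {D : Type u} [CommRing D] [Algebra T D] {f : T} (hf : f ∈ maximalIdeal T)
    (y : PrimeSpectrum D) (hy : algebraMap T D f ∉ y.asIdeal) :
    Spec.map (CommRingCat.ofHom (algebraMap T D)) y ∈ FEt.puncturedSpec T := fun hcl =>
  hy (show f ∈ (PrimeSpectrum.comap (algebraMap T D) y).asIdeal from
    (congrArg PrimeSpectrum.asIdeal hcl).symm ▸ hf)

theorem isIso_fst_restrict {D : Type u} [CommRing D] [Algebra T D] {f : T} (hf : f ∈ maximalIdeal T) :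
    IsIso (pullback.fst (Spec.map (CommRingCat.ofHom (algebraMap T D))) (FEt.puncturedSpec T).ι ∣_
      PrimeSpectrum.basicOpen (algebraMap T D f)) := by
  refine VdimThree.isIso_morphismRestrict_of_subset_range _ _ fun y hy => ?_
  rw [IsOpenImmersion.range_pullbackFst, Scheme.Opens.opensRange_ι]
  exact mem_punctured_of_notMem hf y hy

theorem exists_mem_basicOpen {D : Type u} [CommRing D] [Algebra T D]
    (z : (pullback (Spec.map (CommRingCat.ofHom (algebraMap T D))) (FEt.puncturedSpec T).ι : Scheme.{u})) :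
    ∃ f ∈ maximalIdeal T, algebraMap T D f ∉
      (pullback.fst (Spec.map (CommRingCat.ofHom (algebraMap T D))) (FEt.puncturedSpec T).ι z :
        PrimeSpectrum D).asIdeal := by
  have hU : Spec.map (CommRingCat.ofHom (algebraMap T D))
      (pullback.fst (Spec.map (CommRingCat.ofHom (algebraMap T D))) (FEt.puncturedSpec T).ι z) ∈
        FEt.puncturedSpec T := by
    rw [← Scheme.Hom.comp_apply, pullback.condition, Scheme.Hom.comp_apply]
    exact (pullback.snd (Spec.map (CommRingCat.ofHom (algebraMap T D))) (FEt.puncturedSpec T).ι z).2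
  by_contra hne
  push Not at hne
  refine hU (PrimeSpectrum.ext (le_antisymm (IsLocalRing.le_maximalIdeal (PrimeSpectrum.isPrime _).ne_top) ?_))
  exact fun f hf => hne f hf

/-- A finite algebra étale over the punctured spectrum gives an étale morphism there. -/
theorem etale_snd (D : Type u) [CommRing D] [Algebra T D] (hD : OnPunct T D) :
    Etale (pullback.snd (Spec.map (CommRingCat.ofHom (algebraMap T D))) (FEt.puncturedSpec T).ι) := by
  set a := Spec.map (CommRingCat.ofHom (algebraMap T D))
  set U := FEt.puncturedSpec T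
  let W : {f : T // f ∈ maximalIdeal T} → (pullback a U.ι).Opens := fun f =>
    pullback.fst a U.ι ⁻¹ᵁ PrimeSpectrum.basicOpen (algebraMap T D f.1)
  suffices h : Etale (pullback.fst a U.ι ≫ a) by
    rw [pullback.condition] at h
    exact MorphismProperty.of_postcomp (W := @Etale) (W' := @Etale) _ U.ι inferInstance h
  refine (IsZariskiLocalAtSource.iff_of_iSup_eq_top (P := @Etale) W (eq_top_iff.2 fun z _ => ?_)).2 fun f => ?_
  · obtain ⟨f, hf, hfn⟩ := exists_mem_basicOpen z
    exact Opens.mem_iSup.2 ⟨⟨f, hf⟩, hfn⟩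
  · haveI := isIso_fst_restrict (D := D) f.2
    let O : (Spec (CommRingCat.of D)).Opens := PrimeSpectrum.basicOpen (algebraMap T D f.1)
    have e : (W f).ι ≫ pullback.fst a U.ι ≫ a = (pullback.fst a U.ι ∣_ O) ≫ O.ι ≫ a := by
      rw [← Category.assoc, ← morphismRestrict_ι, Category.assoc]
    rw [e]
    haveI : Etale (Spec.map (CommRingCat.ofHom (algebraMap T (Localization.Away (algebraMap T D f.1))))) := by
      refine (HasRingHomProperty.Spec_iff (P := @Etale)).2 ?_
      haveI := hD f.1 f.2
      exact RingHom.etale_algebraMap.2 inferInstance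
    have e2 : O.ι ≫ a = (basicOpenIsoSpecAway (R := CommRingCat.of D) (algebraMap T D f.1)).hom ≫
        Spec.map (CommRingCat.ofHom (algebraMap T (Localization.Away (algebraMap T D f.1)))) := by
      rw [IsScalarTower.algebraMap_eq T D (Localization.Away (algebraMap T D f.1)), CommRingCat.ofHom_comp,
        Spec.map_comp, basicOpenIsoSpecAway_hom_SpecMap_assoc]
    rw [e2]
    infer_instance

variable [IsNoetherianRing T] [(FEt.restrict (FEt.puncturedSpec T).ι).EssSurj]

/-- Purity extends a finite algebra which is étale over the punctured spectrum. -/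
theorem exists_extension (D : Type u) [CommRing D] [Algebra T D] [Module.Finite T D] (hD : OnPunct T D) :
    ∃ (E : Type u) (_ : CommRing E) (_ : Algebra T E), Module.Finite T E ∧ Algebra.Etale T E ∧
      ∃ φ : pullback (Spec.map (CommRingCat.ofHom (algebraMap T E))) (FEt.puncturedSpec T).ι ⟶
          pullback (Spec.map (CommRingCat.ofHom (algebraMap T D))) (FEt.puncturedSpec T).ι,
        IsIso φ ∧ φ ≫ pullback.snd _ _ = pullback.snd _ _ := by
  let a := Spec.map (CommRingCat.ofHom (algebraMap T D))
  let U := FEt.puncturedSpec T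
  haveI : IsFinite a := (IsFinite.SpecMap_iff _).2 (RingHom.finite_algebraMap.2 inferInstance)
  let V : FEt.Cat (U : Scheme.{u}) := MorphismProperty.Over.mk ⊤ (pullback.snd a U.ι)
    ⟨inferInstance, etale_snd D hD⟩
  let Y := (FEt.restrict U.ι).objPreimage V
  let e := (FEt.restrict U.ι).objObjPreimageIso V
  haveI : IsFinite Y.hom := Y.prop.1
  haveI : Etale Y.hom := Y.prop.2
  haveI : IsAffine Y.left := isAffine_of_isAffineHom (X := Y.left) (Y := Spec (CommRingCat.of T)) Y.hom
  let r : CommRingCat.of T ⟶ Γ(Y.left, ⊤) := (Scheme.ΓSpecIso (CommRingCat.of T)).inv ≫ Y.hom.appTop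
  letI : Algebra T Γ(Y.left, ⊤) := r.hom.toAlgebra
  have hr : Spec.map r = Y.left.isoSpec.inv ≫ Y.hom := by
    rw [Iso.eq_inv_comp]
    exact isoSpec_hom_SpecMap _
  haveI : IsFinite (Spec.map r) := by rw [hr]; infer_instance
  haveI : Etale (Spec.map r) := by rw [hr]; infer_instance
  let m : pullback (Spec.map r) U.ι ⟶ pullback Y.hom U.ι :=
    pullback.map _ _ _ _ Y.left.isoSpec.inv (𝟙 _) (𝟙 _) (by rw [Category.comp_id, hr]) (by simp)
  let ε : pullback Y.hom U.ι ⟶ pullback a U.ι := e.hom.left
  haveI : IsIso ε :=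
    ((MorphismProperty.Over.forget FEt.prop.{u} ⊤ _ ⋙ Over.forget _).mapIso e).isIso_hom
  have hw : ε ≫ pullback.snd a U.ι = pullback.snd Y.hom U.ι := Over.w e.hom.hom
  haveI : IsIso m := by
    have : m = pullback.map _ _ _ _ Y.left.isoSpec.inv (𝟙 _) (𝟙 _) (by rw [Category.comp_id, hr]) (by simp) := rfl
    rw [this]; infer_instance
  haveI : IsIso (m ≫ ε) := IsIso.comp_isIso' inferInstance inferInstance
  refine ⟨Γ(Y.left, ⊤), inferInstance, inferInstance,
    RingHom.finite_algebraMap.1 ((IsFinite.SpecMap_iff r).1 ‹IsFinite (Spec.map r)›),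
    RingHom.etale_algebraMap.1 ((HasRingHomProperty.Spec_iff (P := @Etale)).1 ‹Etale (Spec.map r)›),
    m ≫ ε, inferInstance, ?_⟩
  show (m ≫ ε) ≫ pullback.snd a U.ι = _
  rw [Category.assoc, hw]
  exact pullback.lift_snd _ _ _ |>.trans (Category.comp_id _)

/-- Depth two: the extension maps from the algebra, bijectively off the closed point. -/
theorem exists_etale_hom (hdepth : (2 : ℕ∞) ≤ LocCoh.depth T T) (D : Type u) [CommRing D] [Algebra T D]
    [Module.Finite T D] (hD : OnPunct T D) :
    ∃ (E : Type u) (_ : CommRing E) (_ : Algebra T E), Module.Finite T E ∧ Algebra.Etale T E ∧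
      ∃ h : D →ₐ[T] E, ∀ f ∈ maximalIdeal T,
        Function.Bijective (Localization.awayMap h.toRingHom (algebraMap T D f)) := by
  obtain ⟨E, _, _, hfin, het, φ, hφ, hw⟩ := exists_extension D hD
  haveI := hfin; haveI := het; haveI := hφ
  let a := Spec.map (CommRingCat.ofHom (algebraMap T D))
  let b := Spec.map (CommRingCat.ofHom (algebraMap T E))
  let U := FEt.puncturedSpec T
  haveI : IsFinite a := (IsFinite.SpecMap_iff _).2 (RingHom.finite_algebraMap.2 inferInstance)
  haveI : IsFinite b := (IsFinite.SpecMap_iff _).2 (RingHom.finite_algebraMap.2 inferInstance)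
  haveI : Etale b := (HasRingHomProperty.Spec_iff (P := @Etale)).2 (RingHom.etale_algebraMap.2 inferInstance)
  haveI : NoetherianSpace (Spec (CommRingCat.of T)) := inferInstanceAs (NoetherianSpace (PrimeSpectrum T))
  haveI : QuasiCompact U.ι := inferInstance
  have hd : ∀ x : Spec (CommRingCat.of T), x ∉ U →
      (2 : ℕ∞) ≤ LocCoh.depth ((Spec (CommRingCat.of T)).presheaf.stalk x)
        ((Spec (CommRingCat.of T)).presheaf.stalk x) := by
    intro x hx
    obtain rfl : x = IsLocalRing.closedPoint T := not_not.1 hx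
    exact hdepth.trans_eq (depth_stalk_closedPoint T).symm
  obtain ⟨ψ, ⟨hψ1, hψ2⟩, -⟩ :=
    existsUnique_extend' U (exists_pair_chart_of_depth U hd) b a φ hw
  obtain ⟨g, rfl⟩ : ∃ g, Spec.map g = ψ := ⟨Spec.preimage ψ, Spec.map_preimage ψ⟩
  have hg : CommRingCat.ofHom (algebraMap T D) ≫ g = CommRingCat.ofHom (algebraMap T E) :=
    Spec.map_injective (by rw [Spec.map_comp]; exact hψ1)
  let h : D →ₐ[T] E := { g.hom with commutes' := fun t => congr($(hg).hom t) }
  refine ⟨E, inferInstance, inferInstance, hfin, het, h, fun f hf => bijective_awayMap_of_isIso _ _ ?_⟩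
  let O : (Spec (CommRingCat.of D)).Opens := PrimeSpectrum.basicOpen (algebraMap T D f)
  show IsIso (Spec.map g ∣_ O)
  haveI : IsIso (pullback.fst a U.ι ∣_ O) := isIso_fst_restrict (D := D) hf
  have hgf : g (algebraMap T D f) = algebraMap T E f := congr($(hg).hom f)
  haveI : IsIso (pullback.fst b U.ι ∣_ Spec.map g ⁻¹ᵁ O) := by
    have hO : Spec.map g ⁻¹ᵁ O = PrimeSpectrum.basicOpen (algebraMap T E f) := by
      ext x
      show g (algebraMap T D f) ∉ (x : PrimeSpectrum E).asIdeal ↔ algebraMap T E f ∉ (x : PrimeSpectrum E).asIdeal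
      rw [hgf]
    rw [hO]
    exact isIso_fst_restrict (D := E) hf
  have h1 : IsIso ((pullback.fst b U.ι ≫ Spec.map g) ∣_ O) := by
    rw [hψ2, morphismRestrict_comp]
    haveI : IsIso (φ ∣_ pullback.fst a U.ι ⁻¹ᵁ O) := inferInstance
    exact IsIso.comp_isIso' ‹IsIso (φ ∣_ pullback.fst a U.ι ⁻¹ᵁ O)› ‹IsIso (pullback.fst a U.ι ∣_ O)›
  rw [morphismRestrict_comp] at h1
  exact @IsIso.of_isIso_comp_left _ _ _ _ _ _ _ ‹IsIso (pullback.fst b U.ι ∣_ Spec.map g ⁻¹ᵁ O)› h1

/-- A regular pair makes such a map bijective. -/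
theorem bijective_of_awayMap {R D E : Type u} [CommRing R] [CommRing D] [CommRing E] [Algebra R D] [Algebra R E]
    (h : D →ₐ[R] E) {a b : R} (hD : TwoWith a b D) (hE : TwoWith a b E)
    (ha : Function.Bijective (Localization.awayMap h.toRingHom (algebraMap R D a)))
    (hb : Function.Bijective (Localization.awayMap h.toRingHom (algebraMap R D b))) :
    Function.Bijective h := by
  have hsurj : ∀ c : R, Function.Bijective (Localization.awayMap h.toRingHom (algebraMap R D c)) →
      ∀ e : E, ∃ (n : ℕ) (x : D), h x = c ^ n • e := by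
    intro c hc e
    have hr : h.toRingHom (algebraMap R D c) = algebraMap R E c := h.commutes c
    obtain ⟨y, hy⟩ := hc.2 (algebraMap E _ e)
    obtain ⟨⟨x, ⟨_, n, rfl⟩⟩, hx⟩ := IsLocalization.surj (Submonoid.powers (algebraMap R D c)) y
    have h1 := congrArg (Localization.awayMap h.toRingHom (algebraMap R D c)) hx
    rw [map_mul, hy] at h1
    simp only [Localization.awayMap, IsLocalization.Away.map, IsLocalization.map_eq] at h1
    rw [← map_mul] at h1
    obtain ⟨⟨_, k, rfl⟩, hk⟩ := (IsLocalization.eq_iff_exists (Submonoid.powers (h.toRingHom (algebraMap R D c))) _).1 h1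
    refine ⟨k + n, algebraMap R D c ^ k * x, ?_⟩
    simp only [map_pow, hr] at hk
    change algebraMap R E c ^ k * (e * algebraMap R E c ^ n) = algebraMap R E c ^ k * h x at hk
    rw [map_mul, map_pow, h.commutes, ← hk, Algebra.smul_def, map_pow, pow_add]
    ring
  refine ⟨(injective_iff_map_eq_zero h).2 fun x hx => ?_, fun e => ?_⟩
  · have h1 : algebraMap D (Localization.Away (algebraMap R D a)) x = 0 := ha.1 (by
      rw [map_zero]
      simp only [Localization.awayMap, IsLocalization.Away.map, IsLocalization.map_eq]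
      rw [show h.toRingHom x = 0 from hx, map_zero])
    obtain ⟨⟨_, k, rfl⟩, hk⟩ :=
      (IsLocalization.map_eq_zero_iff (Submonoid.powers (algebraMap R D a)) _ _).1 h1
    exact hD.inj_pow k (by rw [Algebra.smul_def, map_pow]; exact hk)
  · obtain ⟨k, x, hx⟩ := hsurj a ha e
    obtain ⟨l, y, hy⟩ := hsurj b hb e
    have h1 : b ^ l • x = a ^ k • y := by
      have h2 : h (b ^ l • x) = h (a ^ k • y) := by rw [map_smul, map_smul, hx, hy, smul_comm]
      have h3 : algebraMap D (Localization.Away (algebraMap R D a)) (b ^ l • x - a ^ k • y) = 0 := ha.1 (by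
        rw [map_zero]
        simp only [Localization.awayMap, IsLocalization.Away.map, IsLocalization.map_eq]
        rw [show h.toRingHom (b ^ l • x - a ^ k • y) = 0 by
          show h (b ^ l • x - a ^ k • y) = 0
          rw [map_sub, h2, sub_self], map_zero])
      obtain ⟨⟨_, j, rfl⟩, hj⟩ :=
        (IsLocalization.map_eq_zero_iff (Submonoid.powers (algebraMap R D a)) _ _).1 h3
      exact sub_eq_zero.1 (hD.inj_pow j (by rw [Algebra.smul_def, map_pow]; exact hj))
    obtain ⟨z, rfl⟩ := hD.cancel_pow k l x y h1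
    exact ⟨z, hE.inj_pow_eq k (by rw [← map_smul, hx])⟩

end

end Groth.Agent.PureBranch
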