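import Groth.Agent.PureBranch.Extend
import Mathlib.RingTheory.Etale.StandardEtale
import Mathlib.RingTheory.Unramified.Field

/-!
# Purity fails in dimensions zero and one
-/

set_option autoImplicit false
set_option linter.style.haveILetI false

universe u

open AlgebraicGeometry CategoryTheory CategoryTheory.Limits TopologicalSpace IsLocalRing Polynomial
open Groth.Agent.Purity

namespace Groth.Agent.PureBranch

variable {T : Type u} [CommRing T] [IsLocalRing T]

/-- In dimension zero restriction to the (empty) punctured spectrum is not full. -/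
theorem not_isEquivalence_of_forall_eq (h : ∀ x : PrimeSpectrum T, x = IsLocalRing.closedPoint T)
    [(FEt.restrict (FEt.puncturedSpec T).ι).Full] : False := by
  let U := FEt.puncturedSpec T
  haveI hU : IsEmpty (U : Scheme.{u}) := ⟨fun x => x.2 (h x.1)⟩
  let Z := Localization.Away (0 : T)
  haveI : Subsingleton Z := IsLocalization.subsingleton (M := Submonoid.powers (0 : T)) ⟨1, pow_one _⟩
  haveI : Module.Finite T Z := inferInstance
  let a := Spec.map (CommRingCat.ofHom (algebraMap T Z))
  haveI : Algebra.Etale T Z := Algebra.Etale.of_isLocalizationAway (0 : T)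
  have ha : IsFinite a ∧ Etale a := ⟨(IsFinite.SpecMap_iff _).2 (RingHom.finite_algebraMap.2 inferInstance),
    (HasRingHomProperty.Spec_iff (P := @Etale)).2 (RingHom.etale_algebraMap.2 inferInstance)⟩
  let E0 : FEt.Cat (Spec (CommRingCat.of T)) := MorphismProperty.Over.mk ⊤ a ha
  let E1 : FEt.Cat (Spec (CommRingCat.of T)) := MorphismProperty.Over.mk ⊤ (𝟙 _) ⟨inferInstance, inferInstance⟩
  haveI : IsEmpty ((FEt.restrict U.ι).obj E1).left :=
    Function.isEmpty (β := (U : Scheme.{u})) fun x => ((FEt.restrict U.ι).obj E1).hom x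
  let φ : (FEt.restrict U.ι).obj E1 ⟶ (FEt.restrict U.ι).obj E0 :=
    MorphismProperty.Over.homMk ((isInitialOfIsEmpty).to _) ((isInitialOfIsEmpty).hom_ext _ _)
  let ψ := (FEt.restrict U.ι).preimage φ
  haveI : IsEmpty (Spec (CommRingCat.of Z)) := inferInstanceAs (IsEmpty (PrimeSpectrum Z))
  exact IsEmpty.false (show Spec (CommRingCat.of Z) from ψ.left (IsLocalRing.closedPoint T))

variable {D E : Type u} [CommRing D] [Algebra T D] [CommRing E] [Algebra T E]
  (φ : pullback (Spec.map (CommRingCat.ofHom (algebraMap T E))) (FEt.puncturedSpec T).ι ⟶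
    pullback (Spec.map (CommRingCat.ofHom (algebraMap T D))) (FEt.puncturedSpec T).ι)

/-- An isomorphism off the closed point gives a map into a localisation. -/
theorem exists_hom_away (hw : φ ≫ pullback.snd _ _ = pullback.snd _ _) {f : T} (hf : f ∈ maximalIdeal T) :
    Nonempty (D →ₐ[T] Localization.Away (algebraMap T E f)) := by
  let a := Spec.map (CommRingCat.ofHom (algebraMap T D))
  let b := Spec.map (CommRingCat.ofHom (algebraMap T E))
  let U := FEt.puncturedSpec T
  let O : (Spec (CommRingCat.of E)).Opens := PrimeSpectrum.basicOpen (algebraMap T E f)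
  haveI := isIso_fst_restrict (D := E) hf
  let i : Spec (CommRingCat.of (Localization.Away (algebraMap T E f))) ⟶ pullback b U.ι :=
    (basicOpenIsoSpecAway (R := CommRingCat.of E) (algebraMap T E f)).inv ≫
      inv (pullback.fst b U.ι ∣_ O) ≫ (pullback.fst b U.ι ⁻¹ᵁ O).ι
  have hi : i ≫ pullback.fst b U.ι =
      Spec.map (CommRingCat.ofHom (algebraMap E (Localization.Away (algebraMap T E f)))) := by
    simp only [i, Category.assoc, ← morphismRestrict_ι, IsIso.inv_hom_id_assoc]
    rw [Iso.inv_comp_eq]
    exact (basicOpenIsoSpecAway_hom_SpecMap (R := CommRingCat.of E) (algebraMap T E f)).symm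
  let g := i ≫ φ ≫ pullback.fst a U.ι
  have hg : g ≫ a = Spec.map (CommRingCat.ofHom (algebraMap T (Localization.Away (algebraMap T E f)))) := by
    have h1 : φ ≫ pullback.fst a U.ι ≫ a = pullback.fst b U.ι ≫ b := by
      rw [pullback.condition, pullback.condition, ← Category.assoc]
      exact congrArg (· ≫ U.ι) hw
    simp only [g, Category.assoc, h1]
    rw [reassoc_of% hi, ← Spec.map_comp, ← CommRingCat.ofHom_comp, ← IsScalarTower.algebraMap_eq]
  obtain ⟨χ, hχ⟩ : ∃ χ, Spec.map χ = g := ⟨Spec.preimage g, Spec.map_preimage g⟩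
  have h : CommRingCat.ofHom (algebraMap T D) ≫ χ =
      CommRingCat.ofHom (algebraMap T (Localization.Away (algebraMap T E f))) :=
    Spec.map_injective (by rw [Spec.map_comp, hχ]; exact hg)
  exact ⟨{ χ.hom with commutes' := fun t => congr($(h).hom t) }⟩

/-- In a local ring with principal maximal ideal generated by a regular element, non-zero elements are units
times powers of the generator. -/
theorem exists_eq_pow_mul [IsNoetherianRing T] {π : T} (hm : maximalIdeal T = Ideal.span {π}) {t : T}
    (ht : t ≠ 0) : ∃ (k : ℕ) (u : Tˣ), t = π ^ k * u := by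
  classical
  have hex : ∃ k, ¬ π ^ k ∣ t := by
    by_contra! h
    refine ht (Ideal.mem_bot.1 ?_)
    rw [← Ideal.iInf_pow_eq_bot_of_isLocalRing (maximalIdeal T) (Ideal.IsPrime.ne_top inferInstance),
      Ideal.mem_iInf]
    intro k
    rw [hm, Ideal.span_singleton_pow, Ideal.mem_span_singleton]
    exact h k
  obtain ⟨k, hk⟩ : ∃ k, Nat.find hex = k + 1 := ⟨Nat.find hex - 1, by
    have : Nat.find hex ≠ 0 := fun h0 => Nat.find_spec hex (by rw [h0, pow_zero]; exact one_dvd _)
    omega⟩
  obtain ⟨c, hc⟩ := not_not.1 (Nat.find_min hex (show k < Nat.find hex by omega))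
  have hu : IsUnit c := IsLocalRing.notMem_maximalIdeal.1 fun hcm => by
    rw [hm, Ideal.mem_span_singleton] at hcm
    obtain ⟨d, rfl⟩ := hcm
    exact Nat.find_spec hex (by rw [hk, hc, pow_succ]; exact ⟨d, by ring⟩)
  exact ⟨k, hu.unit, hc⟩

/-- Purity fails for a local ring of dimension one with principal maximal ideal. -/
theorem not_essSurj_of_principal [IsNoetherianRing T] {π : T} (hm : maximalIdeal T = Ideal.span {π})
    (hreg : IsSMulRegular T π) [(FEt.restrict (FEt.puncturedSpec T).ι).EssSurj] : False := by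
  classical
  have hπ : π ∈ maximalIdeal T := hm ▸ Ideal.mem_span_singleton_self π
  obtain ⟨n, hn2, hn0⟩ : ∃ n : ℕ, 2 ≤ n ∧ (n : T) ≠ 0 := by
    by_cases h : ((2 : ℕ) : T) = 0
    · exact ⟨3, by norm_num, by rw [show (3 : ℕ) = 2 + 1 from rfl, Nat.cast_add, h, zero_add, Nat.cast_one]; exact one_ne_zero⟩
    · exact ⟨2, le_rfl, h⟩
  obtain ⟨k, u, hu⟩ := exists_eq_pow_mul hm hn0
  let F : T[X] := X ^ n - C π
  have hF : F.Monic := monic_X_pow_sub_C π (by omega)
  let D := AdjoinRoot F
  haveI : Module.Finite T D := hF.finite_adjoinRoot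
  have hnu : (n : T) * (↑u⁻¹ : T) = π ^ k := by rw [hu, Units.mul_inv_cancel_right]
  let P : StandardEtalePair T :=
    { f := F
      monic_f := hF
      g := C π
      cond := ⟨C (↑u⁻¹ : T) * X, -C (π ^ k), k + 1, by
        have h1 : (n : T[X]) * C (↑u⁻¹ : T) = C π ^ k := by rw [← map_natCast C, ← map_mul, hnu, map_pow]
        have h2 : X ^ (n - 1) * X = (X : T[X]) ^ n := by rw [← pow_succ]; congr 1; omega
        simp only [F, derivative_sub, derivative_X_pow, derivative_C, sub_zero, map_pow, map_natCast, pow_succ]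
        linear_combination (X : T[X]) ^ n * h1 + (n : T[X]) * C (↑u⁻¹ : T) * h2⟩ }
  have hD : OnPunct T D := by
    refine onPunct_of_gens {π} (hm.le.trans Ideal.le_radical) fun t ht => ?_
    rw [Set.mem_singleton_iff.1 ht]
    have e : AdjoinRoot.mk F (C π) = algebraMap T D π := by rw [AdjoinRoot.algebraMap_eq]; exact AdjoinRoot.mk_C π
    exact e ▸ Algebra.Etale.of_equiv P.equivAwayAdjoinRoot
  obtain ⟨E, _, _, hfin, het, φ, hφ, hw⟩ := exists_extension D hD
  haveI := hfin; haveI := het; haveI := hφ
  obtain ⟨χ⟩ := exists_hom_away φ hw hπ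
  haveI : Module.Flat T E := inferInstance
  let y := χ (AdjoinRoot.root F)
  have hy : y ^ n = algebraMap T _ π := by
    have h := congrArg χ (AdjoinRoot.eval₂_root F)
    simp only [F, eval₂_sub, eval₂_X_pow, eval₂_C, map_sub, map_pow, map_zero, sub_eq_zero] at h
    exact h.trans (χ.commutes π)
  have hregE : ∀ (m : ℕ) (x : E), algebraMap T E π ^ m * x = 0 → x = 0 := fun m x hx => by
    refine (hreg.of_flat (S := E)).pow m ?_
    simpa using hx
  obtain ⟨⟨e, ⟨_, m, rfl⟩⟩, he⟩ := IsLocalization.surj (Submonoid.powers (algebraMap T E π)) y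
  have he' : e ^ n = algebraMap T E π ^ (m * n + 1) := by
    have h : algebraMap E (Localization.Away (algebraMap T E π)) (e ^ n) =
        algebraMap E _ (algebraMap T E π ^ (m * n + 1)) := by
      simp only at he
      rw [map_pow, ← he, mul_pow, hy, IsScalarTower.algebraMap_apply T E (Localization.Away (algebraMap T E π)), ← map_pow, ← map_mul, ← pow_mul,
        ← pow_succ']
    obtain ⟨⟨_, j, rfl⟩, hj⟩ := (IsLocalization.eq_iff_exists (Submonoid.powers (algebraMap T E π)) _).1 h
    exact sub_eq_zero.1 (hregE j _ (by rw [mul_sub, sub_eq_zero]; exact hj))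
  have hred : IsReduced (E ⧸ (Ideal.span {π}).map (algebraMap T E)) := by
    haveI : (Ideal.span {π}).IsMaximal := hm ▸ maximalIdeal.isMaximal T
    letI := Ideal.Quotient.field (Ideal.span {π})
    exact Algebra.FormallyUnramified.isReduced_of_field (T ⧸ Ideal.span {π})
      (E ⧸ (Ideal.span {π}).map (algebraMap T E))
  have hdvd : ∀ (x : E) (j : ℕ), x ^ n = algebraMap T E π ^ (j + 1) → algebraMap T E π ∣ x := fun x j hx => by
    have h0 : Ideal.Quotient.mk ((Ideal.span {π}).map (algebraMap T E)) x = 0 := hred.eq_zero _ ⟨n, by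
      rw [← map_pow, Ideal.Quotient.eq_zero_iff_mem, hx]
      exact Ideal.pow_mem_of_mem _ (Ideal.mem_map_of_mem _ (Ideal.mem_span_singleton_self π)) _ (by omega)⟩
    rw [Ideal.Quotient.eq_zero_iff_mem, Ideal.map_span, Set.image_singleton, Ideal.mem_span_singleton] at h0
    exact h0
  have hdesc : ∀ (m : ℕ) (e : E), e ^ n = algebraMap T E π ^ (m * n + 1) → IsUnit (algebraMap T E π) := by
    intro m
    induction m with
    | zero =>
      intro e he
      obtain ⟨z, rfl⟩ := hdvd e (0 * n) he
      refine IsUnit.of_mul_eq_one (algebraMap T E π ^ (n - 2) * z ^ n) (sub_eq_zero.1 (hregE 1 _ ?_))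
      rw [mul_sub, sub_eq_zero, pow_one, ← mul_assoc, ← mul_assoc, ← pow_two, ← pow_add,
        show 2 + (n - 2) = n by omega, ← mul_pow, he, mul_one]
      simp
    | succ m ih =>
      intro e he
      obtain ⟨z, rfl⟩ := hdvd e ((m + 1) * n) he
      refine ih z (sub_eq_zero.1 (hregE n _ ?_))
      rw [mul_sub, sub_eq_zero, ← mul_pow, he, ← pow_add]
      congr 1
      ring
  have hunit := hdesc m e he'
  have hE : Subsingleton E := by
    by_contra hns
    haveI : Nontrivial E := not_subsingleton_iff_nontrivial.1 hns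
    refine top_ne_bot ((Submodule.eq_bot_of_le_smul_of_le_jacobson_bot (Ideal.span {π}) (⊤ : Submodule T E)
      Module.Finite.fg_top ?_ ?_))
    · intro x _
      obtain ⟨z, hz⟩ := (show algebraMap T E π ∣ x from hunit.dvd)
      rw [hz, ← Algebra.smul_def]
      exact Submodule.smul_mem_smul (Ideal.mem_span_singleton_self π) Submodule.mem_top
    · rw [← hm, IsLocalRing.jacobson_eq_maximalIdeal ⊥ bot_ne_top]
  obtain ⟨y, hy⟩ : ∃ y : PrimeSpectrum D, algebraMap T D π ∉ y.asIdeal := by
    by_contra! hall
    have hnil : algebraMap T D π ∈ nilradical D := by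
      rw [nilradical_eq_sInf, Ideal.mem_sInf]
      exact fun {P} hP => hall ⟨P, hP⟩
    obtain ⟨j, hj⟩ := mem_nilradical.1 hnil
    rw [← map_pow] at hj
    let B := (AdjoinRoot.powerBasis' hF).basis
    have h0 : π ^ j = 0 := by
      have i : Fin (AdjoinRoot.powerBasis' hF).dim := ⟨0, by
        rw [AdjoinRoot.powerBasis'_dim, natDegree_X_pow_sub_C]; omega⟩
      have h1 : π ^ j • B i = 0 := by rw [Algebra.smul_def, hj, zero_mul]
      have h2 := congrArg (fun x => B.repr x i) h1
      simpa [map_smul, B.repr_self] using h2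
    refine one_ne_zero (α := T) ((hreg.pow j) ?_)
    simp [h0]
  obtain ⟨z, -⟩ : ∃ z, pullback.fst (Spec.map (CommRingCat.ofHom (algebraMap T D))) (FEt.puncturedSpec T).ι z = y := by
    have : y ∈ Set.range (pullback.fst (Spec.map (CommRingCat.ofHom (algebraMap T D))) (FEt.puncturedSpec T).ι) := by
      rw [IsOpenImmersion.range_pullbackFst, Scheme.Opens.opensRange_ι]
      exact mem_punctured_of_notMem hπ y hy
    exact this
  obtain ⟨w, -⟩ := φ.surjective z
  haveI : IsEmpty (Spec (CommRingCat.of E)) := inferInstanceAs (IsEmpty (PrimeSpectrum E))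
  exact IsEmpty.false (show Spec (CommRingCat.of E) from pullback.fst (Spec.map (CommRingCat.ofHom (algebraMap T E))) (FEt.puncturedSpec T).ι w)

end Groth.Agent.PureBranch
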