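import Groth.Agent.PureBranch.Step
import Groth.Agent.LefEssSurj.Extends

/-!
# Pure in codimension `r` bounds the codimension of ramification
-/

set_option autoImplicit false
set_option linter.style.haveILetI false

universe u

open IsLocalRing AlgebraicGeometry Groth.Agent.Purity

namespace Groth.Agent.PureBranch

/-- Minimal ramified primes of a normal finite extension lie below the codimension of purity. -/
theorem height_lt_of_pure {A : Type u} [CommRing A] [IsDomain A] [IsNoetherianRing A] [IsIntegrallyClosed A] (r : ℕ)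
    (hpure : ∀ (P : Ideal A) [P.IsPrime], (r : ℕ∞) ≤ P.height →
      SGA2.IsPurePair (Spec (CommRingCat.of (AdicCompletion (maximalIdeal (Localization.AtPrime P)) (Localization.AtPrime P))))
        (FEt.puncturedSpec (AdicCompletion (maximalIdeal (Localization.AtPrime P)) (Localization.AtPrime P))))
    {C : Type u} [CommRing C] [IsDomain C] [IsIntegrallyClosed C] [Algebra A C] [Module.Finite A C]
    (hinj : Function.Injective (algebraMap A C)) (q : Ideal C) [q.IsPrime] (hq : ¬ Algebra.IsUnramifiedAt A q)
    (hmin : ∀ (q' : Ideal C) [q'.IsPrime], q' ≤ q → ¬ Algebra.IsUnramifiedAt A q' → q' = q) :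
    q.height < (r : ℕ∞) := by
  by_contra hr
  rw [not_lt] at hr
  haveI : Algebra.IsIntegral A C := Algebra.IsIntegral.of_finite A C
  set p := q.comap (algebraMap A C) with hp
  have hrp : (r : ℕ∞) ≤ p.height := hr.trans (height_le_comap q)
  set Ap := Localization.AtPrime p
  set T := AdicCompletion (maximalIdeal Ap) Ap
  haveI : IsDomain Ap := IsLocalization.isDomain_localization p.primeCompl_le_nonZeroDivisors
  haveI : IsIntegrallyClosed Ap :=
    isIntegrallyClosed_of_isLocalization _ p.primeCompl p.primeCompl_le_nonZeroDivisors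
  haveI : IsNoetherianRing Ap := IsLocalization.isNoetherianRing p.primeCompl Ap inferInstance
  haveI : IsNoetherianRing T := AdicBasics.isNoetherianRing_completion Ap
  haveI := LefEssSurj.isPurePair_punctured_iff.1 (hpure p hrp)
  by_cases h2 : (2 : ℕ∞) ≤ p.height
  · exact hq (isUnramifiedAt_step hinj q h2 fun q' hq' hlt => by
      by_contra hne
      exact hlt.ne (hmin q' hlt.le hne))
  · have hdim : ringKrullDim Ap ≤ 1 := by
      rw [IsLocalization.AtPrime.ringKrullDim_eq_height p Ap]
      have : p.height ≤ 1 := Order.le_of_lt_add_one (by rw [show (1 : ℕ∞) + 1 = 2 by norm_num]; exact not_le.1 h2)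
      exact_mod_cast this
    haveI : Ring.KrullDimLE 1 Ap := Ring.krullDimLE_iff.2 hdim
    by_cases hbot : maximalIdeal Ap = ⊥
    · have hT : maximalIdeal T = ⊥ := AdicCompletion.maximalIdeal_eq_map.trans ((congrArg (Ideal.map (algebraMap Ap T)) hbot).trans Ideal.map_bot)
      exact not_isEquivalence_of_forall_eq (T := T) fun x => PrimeSpectrum.ext
        (le_antisymm (le_maximalIdeal x.2.ne_top) (hT.trans_le bot_le))
    · have h34 : IsIntegrallyClosed Ap ∧ (∀ P : Ideal Ap, P ≠ ⊥ → P.IsPrime → P = maximalIdeal Ap) ↔
          (maximalIdeal Ap).IsPrincipal :=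
        (tfae_of_isNoetherianRing_of_isLocalRing_of_isDomain Ap).out 3 4
      haveI hprinc : (maximalIdeal Ap).IsPrincipal := h34.1
        ⟨inferInstance, fun P hP hPp => IsLocalRing.eq_maximalIdeal (Ring.krullDimLE_one_iff_of_noZeroDivisors.1 inferInstance P hP hPp)⟩
      obtain ⟨π, hπ⟩ := Submodule.IsPrincipal.principal (maximalIdeal Ap)
      have hπ' : maximalIdeal Ap = Ideal.span {π} := hπ
      have hπ0 : π ≠ 0 := fun h => hbot (by rw [hπ', h, Ideal.span_singleton_eq_bot.2 rfl])
      refine not_essSurj_of_principal (T := T) (π := algebraMap Ap T π) ?_ ?_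
      · exact AdicCompletion.maximalIdeal_eq_map.trans ((congrArg (Ideal.map (algebraMap Ap T)) hπ').trans
          (by rw [Ideal.map_span, Set.image_singleton]))
      · exact IsSMulRegular.of_flat (fun x y hxy => mul_left_cancel₀ hπ0 hxy)

end Groth.Agent.PureBranch
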