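import Groth.Agent.PureBranch.LowDim
import Groth.Agent.Purity.BranchLocus
import Groth.Agent.EssSub.UnramNormal
import Groth.Agent.UnramCMEtale.Basic
import Groth.Agent.CMFlat.Quotient

/-!
# Ramification over a normal base which is pure at a prime
-/

set_option autoImplicit false
set_option linter.style.haveILetI false

universe u

open IsLocalRing Groth.Agent.Purity
open scoped TensorProduct

attribute [local instance] Algebra.TensorProduct.rightAlgebra

namespace Groth.Agent.PureBranch

/-- In a normal domain two elements without common prime of height one form a regular pair. -/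
theorem two_of_normal {R : Type u} [CommRing R] [IsDomain R] [IsNoetherianRing R] [IsIntegrallyClosed R] {a b : R}
    (ha : a ≠ 0) (h : ∀ P : Ideal R, P.IsPrime → P.height = 1 → a ∈ P → b ∉ P) : TwoWith a b R := by
  refine ⟨fun m hm => (mul_eq_zero.1 hm).resolve_left ha, fun m n hmn => ?_⟩
  obtain ⟨z, hz⟩ := InvGen.dvd_of_forall_height_one (c := m) ha fun P hP hP1 => by
    by_cases haP : a ∈ P
    · exact ⟨b, h P hP hP1 haP, n, hmn⟩
    · exact ⟨a, haP, dvd_mul_right _ _⟩
  exact ⟨z, hz⟩

/-- An element of a prime of height at least two which avoids the primes of height one containing `a`. -/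
theorem exists_pair_avoid {A : Type u} [CommRing A] [IsDomain A] [IsNoetherianRing A] (p : Ideal A) [p.IsPrime]
    (hp : (2 : ℕ∞) ≤ p.height) :
    ∃ a b : A, a ∈ p ∧ b ∈ p ∧ a ≠ 0 ∧ ∀ P : Ideal A, P.IsPrime → P.height ≤ 1 → a ∈ P → b ∉ P := by
  classical
  obtain ⟨a, hap, ha⟩ := Submodule.exists_mem_ne_zero_of_ne_bot (p := p) fun h => by
    rw [h, Ideal.height_bot] at hp
    exact absurd hp (by norm_num)
  have hfin := Ideal.finite_minimalPrimes_of_isNoetherianRing A (Ideal.span {a})
  have h1 : ∀ M ∈ (Ideal.span {a}).minimalPrimes, ¬ p ≤ M := fun M hM hle =>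
    absurd ((hp.trans (Ideal.height_mono hle)).trans (Ideal.height_le_one_of_isPrincipal_of_mem_minimalPrimes _ _ hM))
      (by norm_num)
  obtain ⟨b, hbp, hb⟩ : ∃ b ∈ p, ∀ M ∈ (Ideal.span {a}).minimalPrimes, b ∉ M := by
    by_contra! hall
    obtain ⟨M, hM, hle⟩ := (Ideal.subset_union_prime_finite (f := fun M : Ideal A => M) hfin ⊥ ⊥
      (fun M hM _ _ => hM.1.1) (I := p)).1 (fun x hx => by
        obtain ⟨M, hM, hxM⟩ := hall x hx
        exact Set.mem_biUnion hM hxM)
    exact h1 M hM hle
  refine ⟨a, b, hap, hbp, ha, fun P hP hP1 haP => ?_⟩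
  haveI := hP
  obtain ⟨M, hM, hMP⟩ := Ideal.exists_minimalPrimes_le ((Ideal.span_singleton_le_iff_mem P).2 haP)
  haveI := hM.1.1
  rcases eq_or_lt_of_le hMP with rfl | hlt
  · exact hb _ hM
  · exfalso
    have hMbot : (⊥ : Ideal A) < M := bot_lt_iff_ne_bot.2 fun h => ha (by
      simpa using (h ▸ hM.1.2) (Ideal.mem_span_singleton_self a))
    have h2 := Ideal.height_strict_mono_of_isPrime hMbot
    have h3 := Ideal.height_strict_mono_of_isPrime hlt
    rw [Ideal.height_bot] at h2
    exact absurd (h3.trans_le hP1) (not_lt.2 (Order.one_le_iff_pos.2 h2))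

variable {A C : Type u} [CommRing A] [IsDomain A] [IsNoetherianRing A] [IsIntegrallyClosed A] [CommRing C]
  [IsDomain C] [IsIntegrallyClosed C] [Algebra A C] [Module.Finite A C]

omit [IsIntegrallyClosed C] in
/-- Unramified over a normal domain is étale. -/
theorem isEtaleAt_of_isUnramifiedAt (hinj : Function.Injective (algebraMap A C)) (q : Ideal C) [q.IsPrime]
    [Algebra.IsUnramifiedAt A q] : Algebra.IsEtaleAt A q := by
  set p := q.comap (algebraMap A C) with hp
  haveI : q.LiesOver p := ⟨rfl⟩
  set Ap := Localization.AtPrime p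
  set Cq := Localization.AtPrime q
  letI : Algebra Ap Cq := Localization.AtPrime.algebraOfLiesOver p q
  haveI : IsDomain Ap := IsLocalization.isDomain_localization p.primeCompl_le_nonZeroDivisors
  haveI : IsIntegrallyClosed Ap :=
    isIntegrallyClosed_of_isLocalization _ p.primeCompl p.primeCompl_le_nonZeroDivisors
  haveI : Algebra.EssFiniteType Ap Cq := Algebra.EssFiniteType.of_comp A Ap Cq
  haveI : Algebra.FormallyUnramified A Cq := ‹Algebra.IsUnramifiedAt A q›
  haveI : Algebra.FormallyUnramified Ap Cq := Algebra.FormallyUnramified.of_restrictScalars A Ap Cq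
  haveI : IsLocalHom (algebraMap Ap Cq) := by
    rw [RingHom.algebraMap_toAlgebra]
    exact Localization.isLocalHom_localRingHom p q (algebraMap A C) Ideal.LiesOver.over
  have hinj' : Function.Injective (algebraMap Ap Cq) := by
    refine IsLocalization.injective_iff_map_algebraMap_eq p.primeCompl (algebraMap Ap Cq) |>.2 fun x y => ?_
    rw [← IsScalarTower.algebraMap_apply, ← IsScalarTower.algebraMap_apply,
      IsScalarTower.algebraMap_apply A C Cq, IsScalarTower.algebraMap_apply A C Cq,
      (IsLocalization.injective Cq q.primeCompl_le_nonZeroDivisors).eq_iff, hinj.eq_iff,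
      (IsLocalization.injective Ap p.primeCompl_le_nonZeroDivisors).eq_iff]
  haveI : Module.Flat Ap Cq := EssSub.flat_of_unramified_normal Ap Cq hinj'
  haveI : Module.Flat A Ap := IsLocalization.flat Ap p.primeCompl
  haveI : Module.Flat A Cq := Module.Flat.trans A Ap Cq
  haveI : Algebra.FinitePresentation A C := Algebra.FinitePresentation.of_finiteType.1 inferInstance
  exact UnramCMEtale.isEtaleAt_of_flat q inferInstance

/-- The punctured spectrum of the local factor. -/
theorem onPunct_factor {A C T D : Type u} [CommRing A] [IsNoetherianRing A] [CommRing C] [CommRing T] [CommRing D]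
    [Algebra A C] [Module.Finite A C] [Algebra A T] [IsLocalRing T] [IsNoetherianRing T]
    [Algebra (T ⊗[A] C) D] [Algebra T D] [IsScalarTower T (T ⊗[A] C) D] [Module.Finite T D] [IsLocalRing D]
    (g₀ : T ⊗[A] C) [IsLocalization.Away g₀ D] (p : Ideal A) (hmT : maximalIdeal T = p.map (algebraMap A T))
    (N : Ideal (T ⊗[A] C)) [N.IsPrime] (hmD : (maximalIdeal D).comap (algebraMap (T ⊗[A] C) D) = N)
    (q : Ideal C) (hNC : ∀ c, algebraMap C (T ⊗[A] C) c ∈ N ↔ c ∈ q) (hpq : ∀ f ∈ p, algebraMap A C f ∈ q)
    (ih : ∀ q' : Ideal C, (hq' : q'.IsPrime) → q' < q → Algebra.IsEtaleAt A q') :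
    OnPunct T D ∧ (Algebra.Etale T D → Algebra.IsEtaleAt T N) := by
  have hcompare : ∀ Q : Ideal D, [Q.IsPrime] →
      (Algebra.IsEtaleAt T (Q.comap (algebraMap (T ⊗[A] C) D)) ↔ Algebra.IsEtaleAt T Q) := by
    intro Q _
    haveI : IsLocalization.AtPrime (Localization.AtPrime Q) (Q.comap (algebraMap (T ⊗[A] C) D)) :=
      IsLocalization.isLocalization_isLocalization_atPrime_isLocalization (Submonoid.powers g₀)
        (Localization.AtPrime Q) Q
    exact Algebra.FormallyEtale.iff_of_equiv ((IsLocalization.algEquiv (Q.comap (algebraMap (T ⊗[A] C) D)).primeCompl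
      (Localization.AtPrime (Q.comap (algebraMap (T ⊗[A] C) D))) (Localization.AtPrime Q)).restrictScalars T)
  haveI : Algebra.FinitePresentation A C := Algebra.FinitePresentation.of_finiteType.1 inferInstance
  haveI : Algebra.FinitePresentation T D := Algebra.FinitePresentation.of_finiteType.1 inferInstance
  refine ⟨onPunct_of_gens (algebraMap A T '' p) (hmT.le.trans Ideal.le_radical) ?_, fun hDet => ?_⟩
  · rintro _ ⟨f, hf, rfl⟩
    rw [← Algebra.basicOpen_subset_etaleLocus_iff_etale]
    intro Q hQ
    refine (hcompare Q.asIdeal).1 ?_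
    set Q' := Q.asIdeal.comap (algebraMap (T ⊗[A] C) D)
    set q' := Q'.comap (algebraMap C (T ⊗[A] C))
    have hle : Q' ≤ N := hmD ▸ Ideal.comap_mono (IsLocalRing.le_maximalIdeal (Ideal.IsPrime.ne_top inferInstance))
    have hlt : q' < q := by
      refine lt_of_le_of_ne (fun c hc => (hNC c).1 (hle hc)) fun he' => hQ ?_
      have : algebraMap A C f ∈ q' := he' ▸ hpq f hf
      show algebraMap T D (algebraMap A T f) ∈ Q.asIdeal
      rw [IsScalarTower.algebraMap_apply T (T ⊗[A] C) D, ← IsScalarTower.algebraMap_apply A T (T ⊗[A] C),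
        IsScalarTower.algebraMap_apply A C (T ⊗[A] C)]
      exact this
    haveI := ih q' inferInstance hlt
    obtain ⟨g, hg, hge⟩ := Algebra.exists_etale_of_isEtaleAt (R := A) q'
    haveI := hge
    haveI : Algebra.Etale T (Localization.Away ((1 : T) ⊗ₜ[A] g)) :=
      Algebra.Etale.of_equiv (IsLocalization.Away.tensorProductEquivTMulRight A T g (Localization.Away g))
    exact Algebra.basicOpen_subset_etaleLocus_iff_etale.2 ‹_›
      (show (1 : T) ⊗ₜ[A] g ∉ (⟨Q', inferInstance⟩ : PrimeSpectrum (T ⊗[A] C)).asIdeal from hg)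
  · have h := (hcompare (maximalIdeal D)).2
      (Set.eq_univ_iff_forall.1 (Algebra.etaleLocus_eq_univ_iff_etale.2 hDet) (IsLocalRing.closedPoint D))
    revert h
    simp only [hmD]
    exact id

/-- Purity at `P = q ∩ A` of height at least two forbids that ramification starts at `q`. -/
theorem isUnramifiedAt_step (hinj : Function.Injective (algebraMap A C)) (q : Ideal C) [q.IsPrime]
    (hq : (2 : ℕ∞) ≤ (q.comap (algebraMap A C)).height)
    [(FEt.restrict (FEt.puncturedSpec (AdicCompletion (maximalIdeal (Localization.AtPrime (q.comap (algebraMap A C))))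
      (Localization.AtPrime (q.comap (algebraMap A C))))).ι).EssSurj]
    (ih : ∀ q' : Ideal C, (hq' : q'.IsPrime) → q' < q → Algebra.IsUnramifiedAt A q') :
    Algebra.IsUnramifiedAt A q := by
  classical
  haveI : FaithfulSMul A C := (faithfulSMul_iff_algebraMap_injective A C).2 hinj
  haveI : IsNoetherianRing C := IsNoetherianRing.of_finite A C
  haveI : Algebra.IsIntegral A C := Algebra.IsIntegral.of_finite A C
  set p := q.comap (algebraMap A C) with hp
  haveI : q.LiesOver p := ⟨rfl⟩
  set Ap := Localization.AtPrime p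
  set Cq := Localization.AtPrime q
  haveI : IsDomain Ap := IsLocalization.isDomain_localization p.primeCompl_le_nonZeroDivisors
  haveI : IsIntegrallyClosed Ap :=
    isIntegrallyClosed_of_isLocalization _ p.primeCompl p.primeCompl_le_nonZeroDivisors
  haveI : IsNoetherianRing Ap := IsLocalization.isNoetherianRing p.primeCompl Ap inferInstance
  haveI : IsDomain Cq := IsLocalization.isDomain_localization q.primeCompl_le_nonZeroDivisors
  haveI : IsIntegrallyClosed Cq :=
    isIntegrallyClosed_of_isLocalization _ q.primeCompl q.primeCompl_le_nonZeroDivisors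
  haveI : IsNoetherianRing Cq := IsLocalization.isNoetherianRing q.primeCompl Cq inferInstance
  set T := AdicCompletion (maximalIdeal Ap) Ap
  haveI : IsNoetherianRing T := AdicBasics.isNoetherianRing_completion Ap
  haveI : HenselianLocalRing T := (Hensel.henselianLocalRing_iff T).2 inferInstance
  haveI : Module.Flat A Ap := IsLocalization.flat Ap p.primeCompl
  haveI : Module.Flat A T := Module.Flat.trans A Ap T
  haveI : IsLocalHom (algebraMap Ap T) :=
    ((IsLocalRing.local_hom_TFAE _).out 0 2).2 AdicCompletion.maximalIdeal_eq_map.ge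
  haveI : Module.FaithfullyFlat Ap T := Module.FaithfullyFlat.of_flat_of_isLocalHom
  have hmT : maximalIdeal T = p.map (algebraMap A T) := by
    rw [AdicCompletion.maximalIdeal_eq_map]
    refine (congrArg (Ideal.map (algebraMap Ap T)) Localization.AtPrime.map_eq_maximalIdeal.symm).trans ?_
    rw [Ideal.map_map, ← IsScalarTower.algebraMap_eq]
  -- a regular pair
  obtain ⟨a, b, hap, hbp, ha, havoid⟩ := exists_pair_avoid p hq
  have hab : TwoWith (algebraMap A Ap a) (algebraMap A Ap b) Ap := by
    refine two_of_normal (fun h => ha (IsLocalization.injective Ap p.primeCompl_le_nonZeroDivisors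
      (h.trans (map_zero _).symm))) fun P hP hP1 haP hbP => ?_
    haveI := hP
    exact havoid (P.under A) inferInstance ((IsLocalization.height_under p.primeCompl P).trans hP1).le haP hbP
  have hCq : TwoWith a b Cq := by
    refine two_algebraMap_iff.1 (two_of_normal (fun h => ha (hinj (IsLocalization.injective Cq
      q.primeCompl_le_nonZeroDivisors ?_))) fun P hP hP1 haP hbP => ?_)
    · rw [map_zero, map_zero, ← IsScalarTower.algebraMap_apply]; exact h
    haveI := hP
    set q₁ := P.under C
    have h1 : q₁.height = 1 := (IsLocalization.height_under q.primeCompl P).trans hP1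
    set p₁ := q₁.under A
    haveI : q₁.LiesOver p₁ := ⟨rfl⟩
    have h2 := Ideal.height_eq_height_add_of_liesOver_of_hasGoingDown p₁ q₁
    have h3 : p₁.height ≤ 1 := le_self_add.trans (h2.ge.trans h1.le)
    exact havoid p₁ inferInstance h3
      (show algebraMap C Cq (algebraMap A C a) ∈ P by rw [← IsScalarTower.algebraMap_apply]; exact haP)
      (show algebraMap C Cq (algebraMap A C b) ∈ P by rw [← IsScalarTower.algebraMap_apply]; exact hbP)
  have hTab : TwoWith (algebraMap A T a) (algebraMap A T b) T := by
    rw [IsScalarTower.algebraMap_apply A Ap T, IsScalarTower.algebraMap_apply A Ap T]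
    exact two_algebraMap_iff.2 (two_of_flat hab T)
  have haT : algebraMap A T a ∈ maximalIdeal T := hmT ▸ Ideal.mem_map_of_mem _ hap
  have hbT : algebraMap A T b ∈ maximalIdeal T := hmT ▸ Ideal.mem_map_of_mem _ hbp
  have hdepth : (2 : ℕ∞) ≤ LocCoh.depth T T := by
    refine le_trans (le_of_eq ?_) (CMFlat.le_depth_of_isWeaklyRegular (T := T)
      (rs := [algebraMap A T a, algebraMap A T b]) ?_ (by
        intro r hr
        rcases List.mem_cons.1 hr with rfl | hr
        · exact haT
        · rwa [List.mem_singleton.1 hr]))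
    · rfl
    · rw [RingTheory.Sequence.isWeaklyRegular_cons_iff, RingTheory.Sequence.isWeaklyRegular_cons_iff]
      refine ⟨fun x y hxy => hTab.inj_pow_eq 1 (by simpa using hxy), fun x y hxy => ?_,
        RingTheory.Sequence.IsWeaklyRegular.nil _ _⟩
      obtain ⟨x, rfl⟩ := Submodule.Quotient.mk_surjective _ x
      obtain ⟨y, rfl⟩ := Submodule.Quotient.mk_surjective _ y
      simp only [← Submodule.Quotient.mk_smul, Submodule.Quotient.eq] at hxy ⊢
      obtain ⟨n, -, hn⟩ := hxy
      obtain ⟨z, hz⟩ := hTab.cancel (x - y) n (by rw [smul_sub]; exact hn.symm)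
      exact ⟨z, trivial, hz.symm⟩
  -- the point over `q`
  set TC := T ⊗[A] C
  obtain ⟨N, hNp, hNC⟩ := exists_point (T := T) p q
  have hNT : N.comap (algebraMap T TC) = maximalIdeal T := by
    refine ((maximalIdeal.isMaximal T).eq_of_le (Ideal.IsPrime.ne_top inferInstance) ?_).symm
    rw [hmT, Ideal.map_le_iff_le_comap]
    intro x hx
    show algebraMap T TC (algebraMap A T x) ∈ N
    rw [← IsScalarTower.algebraMap_apply, IsScalarTower.algebraMap_apply A C TC]
    exact (hNC _).2 hx
  haveI : N.IsMaximal := Ideal.isMaximal_of_isIntegral_of_isMaximal_comap (R := T) N (hNT ▸ maximalIdeal.isMaximal T)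
  obtain ⟨g₀, hloc, hAway, hmD'⟩ := exists_factor (T := T) N
  set D := TC ⧸ Ideal.span {1 - g₀}
  have hmD : (maximalIdeal D).comap (algebraMap TC D) = N := hmD'
  have hDC : ∀ c : C, algebraMap C D c ∈ maximalIdeal D ↔ c ∈ q := fun c => by
    rw [IsScalarTower.algebraMap_apply C TC D, ← Ideal.mem_comap, hmD, hNC]
  haveI : Module.Flat C TC := flat_right A T C
  haveI : Module.Flat TC D := IsLocalization.flat D (Submonoid.powers g₀)
  haveI : Module.Flat C D := Module.Flat.trans C TC D
  obtain ⟨htwo, -⟩ := transfer_at (A := A) (D := D) q hDC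
  have hDab : TwoWith (algebraMap A T a) (algebraMap A T b) D := two_algebraMap_iff.2 (htwo a b hCq)
  obtain ⟨hpunct, hN⟩ := onPunct_factor (A := A) (D := D) g₀ p hmT N hmD q hNC (fun f hf => hf)
    fun q' hq' hlt => by
      haveI := ih q' hq' hlt
      exact isEtaleAt_of_isUnramifiedAt hinj q'
  obtain ⟨E, _, _, hfin, het, h, hh⟩ := exists_etale_hom hdepth D hpunct
  haveI := hfin; haveI := het
  have hbij : Function.Bijective h :=
    bijective_of_awayMap h hDab (two_of_flat hTab E) (hh _ haT) (hh _ hbT)
  haveI : Algebra.Etale T D := Algebra.Etale.of_equiv (AlgEquiv.ofBijective h hbij).symm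
  exact unramifiedAt_of_baseChange q N hNC (hN ‹_›)

end Groth.Agent.PureBranch
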